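import Groth.Agent.ConnCompLib.Stein
import Groth.Agent.RegConLib.Genus
import Groth.Agent.VertIntLib.Div
import Groth.Agent.VertChiLib.CompExists
import Groth.Agent.CurveDualLib.OmegaAmple
import Groth.Agent.EffCartLib.Basic
import Groth.Agent.BlowUpLib.Cartier

/-!
# Canonical degree of a component which is a connected component of the closed fibre
-/

set_option autoImplicit false
set_option linter.style.haveILetI false
set_option linter.unusedSectionVars false
set_option maxHeartbeats 1000000
set_option backward.isDefEq.respectTransparency false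
set_option backward.isDefEq.respectTransparency.types false
universe u

open CategoryTheory CategoryTheory.Limits AlgebraicGeometry TopologicalSpace Opposite IsLocalRing
open VertChiLib (J χ)
open scoped nonZeroDivisors

noncomputable section

namespace ConnCompLib

/-- A closed point of the spectrum of a Dedekind domain is an effective Cartier divisor. -/
theorem isEffCartier_point (A : Type u) [CommRing A] [IsDedekindDomain A] (p : Ideal A) (hp : p ≠ ⊥) :
    BlowUp.IsEffCartierIdeal (Curv2.idealSheaf A p) := by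
  refine EffCartLib.isEffCartier_of_stalk _ fun x _ U hxU => ?_
  let St := (Spec (CommRingCat.of A)).presheaf.stalk x
  letI : Algebra A St := (StructureSheaf.toStalk A x).hom.toAlgebra
  haveI : IsLocalization.AtPrime St (x : PrimeSpectrum A).asIdeal := StructureSheaf.IsLocalization.to_stalk A x
  haveI : IsPrincipalIdealRing St := by
    rcases eq_or_ne (x : PrimeSpectrum A).asIdeal ⊥ with hx | hx
    · haveI : IsFractionRing A St := by
        have h : (x : PrimeSpectrum A).asIdeal.primeCompl = A⁰ := by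
          ext a; simp [Ideal.primeCompl, hx, mem_nonZeroDivisors_iff_ne_zero]
        show IsLocalization A⁰ St
        rw [← h]; infer_instance
      letI := IsFractionRing.toField A (K := St)
      infer_instance
    · haveI : IsDomain St := IsLocalization.isDomain_of_le_nonZeroDivisors St
        (x : PrimeSpectrum A).asIdeal.primeCompl_le_nonZeroDivisors
      haveI := IsLocalization.AtPrime.isDiscreteValuationRing_of_dedekind_domain A hx St
      infer_instance
  haveI : IsDomain St := IsLocalization.isDomain_of_le_nonZeroDivisors St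
    (x : PrimeSpectrum A).asIdeal.primeCompl_le_nonZeroDivisors
  have hinj : Function.Injective (algebraMap A St) :=
    IsLocalization.injective St (x : PrimeSpectrum A).asIdeal.primeCompl_le_nonZeroDivisors
  have e : (((Curv2.idealSheaf A p).ideal U).map ((Spec (CommRingCat.of A)).presheaf.germ U x hxU).hom) =
      p.map (algebraMap A St) := by
    rw [Curv2.idealSheaf, Scheme.IdealSheafData.ofIdealTop_ideal, Ideal.map_map, Ideal.map_map]
    congr 1
    ext a
    simp only [RingHom.coe_comp, Function.comp_apply]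
    rw [TopCat.Presheaf.germ_res_apply]
    rfl
  let g := Submodule.IsPrincipal.generator (p.map (algebraMap A St))
  refine ⟨g, ?_, by rw [e]; exact (Ideal.span_singleton_generator _).symm⟩
  refine mem_nonZeroDivisors_of_ne_zero fun hg => hp ?_
  have h0 : p.map (algebraMap A St) = ⊥ := by
    rw [← Ideal.span_singleton_generator (p.map (algebraMap A St))]
    exact Ideal.span_singleton_eq_bot.2 hg
  exact (Ideal.map_eq_bot_iff_of_injective hinj).1 h0

/-- Euler characteristics over a bigger ground field. -/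
theorem euler_tower (k : Type u) [Field k] {Z : Scheme.{u}} [Z.Over (Spec (CommRingCat.of k))] (K : Type u) [Field K]
    (q : Z ⟶ Spec (CommRingCat.of K)) (φ : k →+* K)
    (h : q ≫ Spec.map (CommRingCat.ofHom φ) = Z ↘ Spec (CommRingCat.of k)) (M : Z.Modules) :
    Curv2.euler k Z M = ((letI := φ.toAlgebra; Module.finrank k K : ℕ) : ℤ) * @Curv2.euler K _ Z ⟨q⟩ M := by
  rw [Curv2.euler, Curv2.euler, ← smul_eq_mul, smul_finsum]
  refine finsum_congr fun i => ?_
  rw [CurveDualLib.finrank_HH_tower k Z K q φ h M i, smul_eq_mul]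
  push_cast
  ring

variable {R : Type u} [CommRing R] [IsDomain R] [IsDiscreteValuationRing R] {X : Over (Spec (CommRingCat.of R))}

theorem exists_list_with (hX : ArSurf.IsArithSurface R X) (Γ₀ : ArSurf.VertComp R X) :
    ∃ (n : ℕ) (Γ : Fin n → ArSurf.VertComp R X) (i : Fin n), Models.IsComponentList R X Γ ∧ Γ i = Γ₀ := by
  classical
  haveI : IsProper X.hom := VertIntLib.isProper_of_isArithSurface hX
  obtain ⟨-, hint, hdim, hflat, -⟩ := hX
  haveI := hint
  haveI := hflat
  obtain ⟨n, Γ, hΓ⟩ := VertChiLib.exists_list_of_dim_two (X := X) hdim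
  obtain ⟨i, hi⟩ := VertIntLib.eq_genPt_of_isFibGen hΓ (VertIntLib.genPt_over Γ₀)
    (VertIntLib.isFibGen_of_dim hdim.le Γ₀)
  have hr : Set.range ((Γ i).ι.base : (Γ i).curve.left → X.left) = Set.range (Γ₀.ι.base : Γ₀.curve.left → X.left) := by
    simp only [VertIntLib.range_eq_closure, hi]
  refine ⟨n, Function.update Γ i Γ₀, i, ?_, Function.update_self _ _ _⟩
  have e : (fun j => Set.range ((Function.update Γ i Γ₀ j).ι.base :
      (Function.update Γ i Γ₀ j).curve.left → X.left)) =
      fun j => Set.range ((Γ j).ι.base : (Γ j).curve.left → X.left) := by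
    funext j
    rcases eq_or_ne j i with rfl | hj
    · rw [Function.update_self, hr]
    · rw [Function.update_of_ne hj]
  exact ⟨e ▸ hΓ.1, e ▸ hΓ.2⟩

/-- `E·E ≤ 0`, with equality if and only if `E` is a connected component of the closed fibre. -/
theorem selfInter_le_zero (hX : ArSurf.IsArithSurface R X) (Γ₀ : ArSurf.VertComp R X) (L : X.left.Modules)
    (hL : ClSub.IsInverseOf L (ClSub.idealMod Γ₀.ι.ker)) :
    ArSurf.inter R X L Γ₀ ≤ 0 ∧ (ArSurf.inter R X L Γ₀ = 0 ↔ ∃ U : X.left.Opens,
      (U : Set X.left) ∩ Models.specialFibreSet R X = Set.range (Γ₀.ι.base : Γ₀.curve.left → X.left)) := by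
  classical
  haveI : IsProper X.hom := VertIntLib.isProper_of_isArithSurface hX
  obtain ⟨n, Γ, i, hΓ, rfl⟩ := exists_list_with hX Γ₀
  obtain ⟨hreg, hint, hdim, hflat, -⟩ := hX
  haveI := hint
  haveI := hflat
  have hC := VertChiLib.isEffCartier_list hreg hΓ
  let L' : Fin n → X.left.Modules := Function.update (fun j => MiscFlat6.dual (ClSub.idealMod (Γ j).ι.ker)) i L
  have hL' : ∀ j, ClSub.IsInverseOf (L' j) (ClSub.idealMod (Γ j).ι.ker) := fun j => by
    rcases eq_or_ne j i with rfl | hj
    · simpa [L'] using hL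
    · simp only [L', Function.update_of_ne hj]
      exact ⟨HilbPolyLib.swapIso _ _ ≪≫ (MiscFlat6.nonempty_dualIso (IntMultLib.isInvertible_idealMod _ (hC j))).some⟩
  have hrow := VertIntLib.list_row hreg hΓ hL' i
  rw [← Finset.add_sum_erase _ _ (Finset.mem_univ i), show L' i = L by simp [L']] at hrow
  have hoff : ∀ j ∈ Finset.univ.erase i, 0 ≤ ArSurf.inter R X (L' j) (Γ i) ∧ (ArSurf.inter R X (L' j) (Γ i) = 0 ↔
      Disjoint (Set.range ((Γ i).ι.base : (Γ i).curve.left → X.left))
        (Set.range ((Γ j).ι.base : (Γ j).curve.left → X.left))) := fun j hj =>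
    VertIntLib.list_offdiag hreg hΓ hL' (Finset.ne_of_mem_erase hj).symm
  have hposj := VertIntLib.mult_pos hreg hΓ
  have hpos := hposj i
  have hnn : 0 ≤ ∑ j ∈ Finset.univ.erase i, (Models.mult R X (Γ j) : ℤ) * ArSurf.inter R X (L' j) (Γ i) :=
    Finset.sum_nonneg fun j hj => mul_nonneg (Nat.cast_nonneg _) (hoff j hj).1
  refine ⟨?_, ?_⟩
  · by_contra h
    nlinarith [(by exact_mod_cast hpos : (0:ℤ) < (Models.mult R X (Γ i) : ℤ))]
  constructor
  · intro h0
    rw [h0, mul_zero, zero_add] at hrow
    have hd : ∀ j ∈ Finset.univ.erase i, Disjoint (Set.range ((Γ i).ι.base : (Γ i).curve.left → X.left))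
        (Set.range ((Γ j).ι.base : (Γ j).curve.left → X.left)) := fun j hj => by
      have h1 := (Finset.sum_eq_zero_iff_of_nonneg fun j hj => mul_nonneg (Nat.cast_nonneg _) (hoff j hj).1).1 hrow j hj
      exact (hoff j hj).2.1 ((mul_eq_zero.1 h1).resolve_left (by exact_mod_cast (hposj j).ne'))
    refine ⟨⟨(⋃ j ∈ Finset.univ.erase i, Set.range ((Γ j).ι.base : (Γ j).curve.left → X.left))ᶜ,
      (Set.Finite.isClosed_biUnion (Finset.finite_toSet _) fun j _ => (Γ j).ι.isClosedEmbedding.isClosed_range).isOpen_compl⟩, ?_⟩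
    ext x
    simp only [Opens.coe_mk, Set.mem_inter_iff, Set.mem_compl_iff, Set.mem_iUnion, not_exists]
    constructor
    · rintro ⟨hx, hxs⟩
      have hx' := (VertIntLib.mem_support_fibre_iff x).2 hxs
      rw [VertIntLib.specialFibreIdeal_eq hreg hΓ] at hx'
      obtain ⟨j, hj⟩ := ContractLib.mem_support_J Γ (fun j => Models.mult R X (Γ j)) hx'
      by_cases hji : j = i
      · subst hji; exact hj
      · exact absurd hj (hx j (Finset.mem_erase.2 ⟨hji, Finset.mem_univ _⟩))
    · intro hx
      refine ⟨fun j hj hxj => Set.disjoint_left.1 (hd j hj) hx hxj, ?_⟩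
      obtain ⟨w, rfl⟩ := hx
      exact VertIntLib.over_closedPoint (Γ i) w
  · rintro ⟨U, hU⟩
    have hd : ∀ j ∈ Finset.univ.erase i, ArSurf.inter R X (L' j) (Γ i) = 0 := fun j hj => by
      refine (hoff j hj).2.2 (Set.disjoint_left.2 fun x hxi hxj => ?_)
      have hne : j ≠ i := Finset.ne_of_mem_erase hj
      have hg : Models.genPtOf R X (Γ j) ∈ (U : Set X.left) ∩ Models.specialFibreSet R X := by
        refine ⟨?_, VertIntLib.genPt_over _⟩
        rw [VertIntLib.range_eq_closure] at hxj
        exact (specializes_iff_mem_closure.2 hxj).mem_open U.2 ((hU ▸ hxi : x ∈ (U : Set X.left) ∩ _).1)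
      rw [hU] at hg
      refine VertIntLib.genPt_not_mem (Γ j) hdim.le (Γ i) (fun e => hne (hΓ.1 e)) ?_
      rw [← SetLike.mem_coe, Scheme.Hom.support_ker]
      exact subset_closure hg
    rw [Finset.sum_eq_zero fun j hj => by rw [hd j hj, mul_zero], add_zero] at hrow
    exact (mul_eq_zero.1 hrow).resolve_left (by exact_mod_cast hpos.ne')

/-- On a component which is a connected component of the closed fibre, the degree of the canonical
sheaf is a positive multiple of `-χ(O_{X_K})`. -/
theorem exists_ratio (hX : ArSurf.IsArithSurface R X) (Γ₀ : ArSurf.VertComp R X) (L : X.left.Modules)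
    (hL : ClSub.IsInverseOf L (ClSub.idealMod Γ₀.ι.ker)) (ω : X.left.Modules) (hω : Canon.IsCanonical X.hom ω)
    (h0 : ArSurf.inter R X L Γ₀ = 0) :
    ∃ a b : ℕ, 0 < a ∧ 0 < b ∧ (b : ℤ) * ArSurf.inter R X ω Γ₀ =
      -(a : ℤ) * FGA.eulerCharLE (FractionRing R) ((Neron.genericFibre R).obj X).left
        (Coh.structureModule ((Neron.genericFibre R).obj X).left) 1 := by
  classical
  haveI : IsProper X.hom := VertIntLib.isProper_of_isArithSurface hX
  obtain ⟨U, hU⟩ := (selfInter_le_zero hX Γ₀ L hL).2.1 h0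
  obtain ⟨n, Γ, i, hΓ, rfl⟩ := exists_list_with hX Γ₀
  have hX' := hX
  obtain ⟨hreg, hint, hdim, hflat, -⟩ := hX'
  haveI := hint
  haveI := hflat
  haveI : IsLocallyNoetherian X.left := LocallyOfFiniteType.isLocallyNoetherian X.hom
  haveI := isDedekindDomain X hreg
  haveI := flat_toSpecΓ X hreg
  haveI := isProper_toSpecΓ X
  set π := X.left.toSpecΓ
  set x₀ := Models.genPtOf R X (Γ i)
  let p : Ideal Γ(X.left, ⊤) := (π x₀).asIdeal
  obtain ⟨hpmax, hmp⟩ := isMaximal_of_over X (VertIntLib.genPt_over (Γ i))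
  haveI : p.IsMaximal := hpmax
  have hp0 : p ≠ ⊥ := fun hb => by
    obtain ⟨ϖ, hϖ⟩ := IsDiscreteValuationRing.exists_irreducible R
    have h1 : g0 X ϖ ∈ p := hmp hϖ.not_isUnit
    rw [hb, Ideal.mem_bot] at h1
    exact hϖ.ne_zero (g0_injective X (h1.trans (map_zero _).symm))
  letI : Field (Γ(X.left, ⊤) ⧸ p) := Ideal.Quotient.field p
  let v : Spec (CommRingCat.of (Γ(X.left, ⊤) ⧸ p)) ⟶ Spec Γ(X.left, ⊤) :=
    Spec.map (CommRingCat.ofHom (Ideal.Quotient.mk p))
  haveI : IsClosedImmersion v := IsClosedImmersion.spec_of_surjective _ Ideal.Quotient.mk_surjective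
  have hrv : Set.range v = {π x₀} := by
    have h : Set.range v = PrimeSpectrum.zeroLocus (p : Set Γ(X.left, ⊤)) := by
      have := range_comap_of_surjective (Γ(X.left, ⊤) ⧸ p) (Ideal.Quotient.mk p) Ideal.Quotient.mk_surjective
      rw [Ideal.mk_ker] at this
      exact this
    rw [h]
    ext y
    simp only [PrimeSpectrum.mem_zeroLocus, SetLike.coe_subset_coe, Set.mem_singleton_iff]
    exact ⟨fun hy => PrimeSpectrum.ext (hpmax.eq_of_le y.isPrime.ne_top hy).symm, fun hy => by rw [hy]⟩
  let Z := pullback π v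
  let ι : Z ⟶ X.left := pullback.fst π v
  let q : Z ⟶ Spec (CommRingCat.of (Γ(X.left, ⊤) ⧸ p)) := pullback.snd π v
  haveI : IsClosedImmersion ι := inferInstanceAs (IsClosedImmersion (pullback.fst π v))
  -- the fibre is the component
  have hfib : π ⁻¹' {π x₀} = Set.range ((Γ i).ι.base : (Γ i).curve.left → X.left) := by
    have hs : π ⁻¹' {π x₀} ⊆ Models.specialFibreSet R X := fun y hy => by
      show X.hom y = closedPoint R
      rw [← toSpecΓ_baseMap X, Scheme.Hom.comp_apply, show π y = π x₀ from hy, ← Scheme.Hom.comp_apply,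
        toSpecΓ_baseMap]
      exact VertIntLib.genPt_over _
    refine subset_antisymm ?_ ?_
    · intro y hy
      by_contra hyn
      obtain ⟨w, hw, hw1, hw2⟩ := (isConnected_fibre X (π x₀)).isPreconnected (U : Set X.left)
        (Set.range ((Γ i).ι.base : (Γ i).curve.left → X.left))ᶜ U.2 (Γ i).ι.isClosedEmbedding.isClosed_range.isOpen_compl
        (fun w hw => by
          by_cases hw' : w ∈ Set.range ((Γ i).ι.base : (Γ i).curve.left → X.left)
          · exact Or.inl (hU ▸ hw' : w ∈ (U : Set X.left) ∩ Models.specialFibreSet R X).1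
          · exact Or.inr hw')
        ⟨x₀, rfl, (hU ▸ Set.mem_range_self _ : x₀ ∈ (U : Set X.left) ∩ Models.specialFibreSet R X).1⟩ ⟨y, hy, hyn⟩
      exact hw2 (hU ▸ ⟨hw1, hs hw⟩)
    · rw [VertIntLib.range_eq_closure]
      refine closure_minimal (Set.singleton_subset_iff.2 rfl) (IsClosed.preimage π.continuous ?_)
      rw [← hrv]
      exact v.isClosedEmbedding.isClosed_range
  have hker : (Curv2.idealSheaf Γ(X.left, ⊤) p).comap π = ι.ker := by
    rw [← VertChiLib.comap_ker π v, VertChiLib.ker_specMap, Ideal.mk_ker]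
  have hI : BlowUp.IsEffCartierIdeal ι.ker := hker ▸
    BlowUpLib.isEffCartier_comap_of_flat π (isEffCartier_point Γ(X.left, ⊤) p hp0)
  have hrι : Set.range ι = Set.range ((Γ i).ι.base : (Γ i).curve.left → X.left) := by
    rw [← hfib, ← hrv]
    exact Scheme.Pullback.range_fst _ _
  have hsuppI : (ι.ker.support : Set X.left) = Set.range ((Γ i).ι.base : (Γ i).curve.left → X.left) := by
    rw [Scheme.Hom.support_ker, ι.isClosedEmbedding.isClosed_range.closure_eq, hrι]
  obtain ⟨e, he⟩ := VertIntLib.exists_eq_prod hreg hΓ hI fun y hy => by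
    obtain ⟨w, rfl⟩ := (hsuppI ▸ hy : y ∈ Set.range ((Γ i).ι.base : (Γ i).curve.left → X.left))
    exact VertIntLib.over_closedPoint (Γ i) w
  have he0 : ∀ j, j ≠ i → e j = 0 := fun j hj => by
    by_contra h
    have h1 : Models.genPtOf R X (Γ j) ∈ ι.ker.support := by
      rw [SDivLib.mem_support_iff_stalk, he, VertIntLib.stalkIdeal_prod_genPt hreg hΓ]
      exact fun ht => (IsLocalRing.maximalIdeal.isMaximal _).ne_top (eq_top_mono (Ideal.pow_le_self h) ht)
    refine VertIntLib.genPt_not_mem (Γ j) hdim.le (Γ i) (fun e => hj (hΓ.1 e)) ?_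
    rw [← SetLike.mem_coe, Scheme.Hom.support_ker]
    rw [← SetLike.mem_coe, hsuppI] at h1
    exact subset_closure h1
  have hm : 0 < e i := by
    by_contra h
    have h1 : x₀ ∈ ι.ker.support := by rw [← SetLike.mem_coe, hsuppI]; exact ⟨_, rfl⟩
    rw [SDivLib.mem_support_iff_stalk, he, VertIntLib.stalkIdeal_prod_genPt hreg hΓ, Nat.eq_zero_of_not_pos h,
      pow_zero, Ideal.one_eq_top] at h1
    exact h1 rfl
  set Δ : Fin 1 → ArSurf.VertComp R X := fun _ => Γ i
  have hJ : ι.ker = J Δ fun _ => e i := by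
    rw [he, Finset.prod_eq_single i (fun j _ hj => by rw [he0 j hj, pow_zero]) (by simp)]
    simp [J, Δ]
  have hC1 : ∀ j : Fin 1, BlowUp.IsEffCartierIdeal (Δ j).ι.ker := fun _ => VertChiLib.isEffCartier_list hreg hΓ i
  have h2χ := RegConLib.two_χ_vert hX (Γ := Δ) (Function.injective_of_subsingleton _) (fun _ => L) (fun _ => hL)
    ω hω (fun _ => e i)
  simp only [Finset.univ_unique, Finset.sum_singleton, Δ, h0, mul_zero, zero_add] at h2χ
  -- `χ` of the fibre
  have hfin := VertChiLib.fin1_J hC1 (fun _ : Fin 1 => e i)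
  rw [← hJ] at hfin h2χ
  let φ : ResidueField R →+* Γ(X.left, ⊤) ⧸ p := Ideal.quotientMap p (g0 X) hmp
  let q' : Z ⟶ Spec (CommRingCat.of (ResidueField R)) := q ≫ Spec.map (CommRingCat.ofHom φ)
  have hw : q' ≫ Spec.map (CommRingCat.ofHom (residue R)) = ι ≫ X.hom := by
    rw [← toSpecΓ_baseMap X]
    show _ = ι ≫ π ≫ baseMap X
    rw [reassoc_of% (pullback.condition (f := π) (g := v))]
    show (q ≫ _) ≫ _ = q ≫ v ≫ baseMap X
    rw [Category.assoc, baseMap, ← Spec.map_comp, ← Spec.map_comp]
    rfl
  letI : Z.Over (Spec (CommRingCat.of (ResidueField R))) := ⟨q'⟩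
  haveI : IsProper (Z ↘ Spec (CommRingCat.of (ResidueField R))) := by
    haveI : IsProper (q' ≫ Spec.map (CommRingCat.ofHom (residue R))) := by rw [hw]; infer_instance
    exact IsProper.of_comp q' (Spec.map (CommRingCat.ofHom (residue R)))
  haveI : IsNoetherian Z := CurvLib.isNoetherian (ResidueField R) (X := Z)
  obtain ⟨eZ⟩ := SurfNumLib.quotMod_ker_iso ι
  have hN : Coh.IsCoh (Coh.structureModule Z) := DevissLib.isCoh_structureModule Z
  have hlen := fun j => (VertChiLib.length_iso (A := R) eZ j).trans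
    (VertChiLib.len_push' ι q' hw (Coh.structureModule Z) hN j)
  have hv : ∀ j, 2 ≤ j → Subsingleton (Coh.HH Z (Coh.structureModule Z) j) := fun j hj => by
    have h := hlen j
    haveI := hfin.2 j hj
    rw [Module.length_eq_zero] at h
    haveI : Module.Finite (ResidueField R) (Coh.HH Z (Coh.structureModule Z) j) :=
      CurvLib.finite_HH (k := ResidueField R) hN j
    exact (Module.finrank_zero_iff (R := ResidueField R)).1 (by exact_mod_cast h.symm)
  have hχ : χ R (ClSub.quotMod ι.ker) = Curv2.euler (ResidueField R) Z (Coh.structureModule Z) := by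
    simp only [VertChiLib.χ, VertChiLib.len, hlen, ENat.toNat_natCast, CurvLib.euler_eq_sub hv]
  have hκ := euler_tower (ResidueField R) (Γ(X.left, ⊤) ⧸ p) q φ rfl (Coh.structureModule Z)
  -- local constancy over `Spec H⁰`
  haveI : LocallyOfFinitePresentation π := by
    haveI : IsNoetherianRing Γ(X.left, ⊤) := inferInstance
    exact LocallyOfFinitePresentation.iff_locallyOfFiniteType.2 inferInstance
  haveI : LocallyOfFinitePresentation X.hom := LocallyOfFinitePresentation.iff_locallyOfFiniteType.2 inferInstance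
  haveI : IsDomain (Γ(X.left, ⊤) : Type u) := inferInstance
  have hinv : PicF.IsInvertible (Coh.structureModule X.left) := CurvLib.isInvertible_structureModule
  obtain ⟨-, hfp, hfl⟩ := CohCmpLib.rank_one_hyps π ((CohCmpLib.invertible_iff_rank_one _).1 hinv)
  obtain ⟨-, -, hflR⟩ := CohCmpLib.rank_one_hyps X.hom ((CohCmpLib.invertible_iff_rank_one _).1 hinv)
  -- the generic fibre
  let K' := FractionRing Γ(X.left, ⊤)
  letI : Algebra R Γ(X.left, ⊤) := (g0 X).toAlgebra
  haveI : FaithfulSMul R Γ(X.left, ⊤) := (faithfulSMul_iff_algebraMap_injective _ _).2 (g0_injective X)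
  haveI : Module.Finite R Γ(X.left, ⊤) := toSpecΓ_finite X
  haveI : Algebra.IsIntegral R Γ(X.left, ⊤) := Algebra.IsIntegral.of_finite R _
  let ψ : FractionRing R →+* K' := IsFractionRing.lift
    (g := (algebraMap Γ(X.left, ⊤) K').comp (g0 X))
    ((IsFractionRing.injective Γ(X.left, ⊤) K').comp (g0_injective X))
  have hψ : ψ.comp (algebraMap R (FractionRing R)) = (algebraMap Γ(X.left, ⊤) K').comp (g0 X) :=
    RingHom.ext fun r => IsLocalization.lift_eq _ _
  letI : Algebra (FractionRing R) K' := ψ.toAlgebra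
  haveI : IsScalarTower R (FractionRing R) K' := IsScalarTower.of_algebraMap_eq' hψ.symm
  haveI : IsIntegralClosure Γ(X.left, ⊤) R K' := IsIntegralClosure.of_isIntegrallyClosed _ _ _
  haveI : Algebra.IsAlgebraic (FractionRing R) K' :=
    isAlgebraic_of_isFractionRing R Γ(X.left, ⊤) (FractionRing R) K'
  haveI hloc : IsLocalization (Algebra.algebraMapSubmonoid Γ(X.left, ⊤) R⁰) K' :=
    IsIntegralClosure.isLocalization R (FractionRing R) K' Γ(X.left, ⊤)
  haveI : IsLocalization ((R⁰).map (g0 X)) K' := hloc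
  have hpo := CommRingCat.isPushout_of_isLocalization (Rₘ := FractionRing R) (Sₘ := K') (g0 X) ψ hψ R⁰
  have hsq := isPullback_SpecMap_of_isPushout _ _ _ _ hpo
  let u' : Spec (CommRingCat.of K') ⟶ Spec Γ(X.left, ⊤) := Spec.map (CommRingCat.ofHom (algebraMap Γ(X.left, ⊤) K'))
  let W := pullback π u'
  have hW : IsPullback (pullback.fst π u') (pullback.snd π u' ≫ Spec.map (CommRingCat.ofHom ψ)) X.hom
      (Neron.genPt R) := by
    have := (IsPullback.of_hasPullback π u').paste_vert hsq
    rwa [show π ≫ Spec.map (CommRingCat.ofHom (g0 X)) = X.hom from toSpecΓ_baseMap X] at this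
  letI : W.Over (Spec (CommRingCat.of (FractionRing R))) := ⟨pullback.snd π u' ≫ Spec.map (CommRingCat.ofHom ψ)⟩
  have hK := euler_tower (FractionRing R) K' (pullback.snd π u') ψ rfl (Coh.structureModule W)
  have hGW : @Curv2.euler (FractionRing R) _ (pullback X.hom (Neron.genPt R)) ⟨pullback.snd X.hom (Neron.genPt R)⟩
      (Coh.structureModule (pullback X.hom (Neron.genPt R))) = Curv2.euler (FractionRing R) W (Coh.structureModule W) := by
    letI : (pullback X.hom (Neron.genPt R)).Over (Spec (CommRingCat.of (FractionRing R))) :=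
      ⟨pullback.snd X.hom (Neron.genPt R)⟩
    exact ((CurvLib.euler_congr (KFlatLib.pullUnitIso _).symm).trans
      (CohCmpLib.euler_bc hfp hflR (IsPullback.of_hasPullback X.hom (Neron.genPt R))
        (closedPoint (FractionRing R)))).trans
      ((CohCmpLib.euler_bc hfp hflR hW (closedPoint (FractionRing R))).symm.trans
        (CurvLib.euler_congr (KFlatLib.pullUnitIso _)))
  have hconst : @Curv2.euler (Γ(X.left, ⊤) ⧸ p) _ Z ⟨q⟩ (Coh.structureModule Z) =
      @Curv2.euler K' _ W ⟨pullback.snd π u'⟩ (Coh.structureModule W) := by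
    have h2 := CohCmpLib.euler_bc hfp hfl (IsPullback.of_hasPullback π v) (closedPoint (Γ(X.left, ⊤) ⧸ p))
    have h3 := CohCmpLib.euler_bc hfp hfl (IsPullback.of_hasPullback π u') (closedPoint K')
    haveI : PreconnectedSpace ↥(Spec Γ(X.left, ⊤)) := inferInstanceAs (PreconnectedSpace (PrimeSpectrum Γ(X.left, ⊤)))
    letI : Z.Over (Spec (CommRingCat.of (Γ(X.left, ⊤) ⧸ p))) := ⟨q⟩
    letI : W.Over (Spec (CommRingCat.of K')) := ⟨pullback.snd π u'⟩
    refine (CurvLib.euler_congr (k := Γ(X.left, ⊤) ⧸ p) (KFlatLib.pullUnitIso ι).symm).trans ?_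
    refine h2.trans (((CohCmpLib.isLocallyConstant_eulerChar hfp hfl).apply_eq_of_preconnectedSpace _
      (u' (closedPoint K'))).trans ?_)
    exact h3.symm.trans (CurvLib.euler_congr (KFlatLib.pullUnitIso _))
  have hd : topologicalKrullDim ↥(pullback X.hom (Neron.genPt R)) ≤ ((1 : ℕ) : WithBot ℕ∞) :=
    (ContractLib.dim_genericFibre hdim).le
  letI : (pullback X.hom (Neron.genPt R)).Over (Spec (CommRingCat.of (FractionRing R))) :=
    ⟨pullback.snd X.hom (Neron.genPt R)⟩
  haveI : IsProper (pullback X.hom (Neron.genPt R) ↘ Spec (CommRingCat.of (FractionRing R))) :=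
    inferInstanceAs (IsProper (pullback.snd X.hom (Neron.genPt R)))
  have hLE : FGA.eulerCharLE (FractionRing R) ((Neron.genericFibre R).obj X).left
        (Coh.structureModule ((Neron.genericFibre R).obj X).left) 1 =
      Curv2.euler (FractionRing R) (pullback X.hom (Neron.genPt R)) (Coh.structureModule (pullback X.hom (Neron.genPt R))) :=
    HilbPolyLib.eulerCharLE_eq (k := FractionRing R) hd _
  rw [hLE, hGW, hK]
  rw [hχ, hκ, hconst] at h2χ
  letI := φ.toAlgebra
  haveI : IsScalarTower R (ResidueField R) (Γ(X.left, ⊤) ⧸ p) := IsScalarTower.of_algebraMap_eq fun r => rfl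
  haveI : Module.Finite (ResidueField R) (Γ(X.left, ⊤) ⧸ p) :=
    Module.Finite.of_restrictScalars_finite R (ResidueField R) _
  haveI : Module.Finite (FractionRing R) K' := Module.Finite.of_isLocalization R Γ(X.left, ⊤) R⁰
  refine ⟨2 * (letI := φ.toAlgebra; Module.finrank (ResidueField R) (Γ(X.left, ⊤) ⧸ p)),
    e i * Module.finrank (FractionRing R) K', ?_, Nat.mul_pos hm Module.finrank_pos, ?_⟩
  · exact Nat.mul_pos two_pos Module.finrank_pos
  · push_cast
    linear_combination (Module.finrank (FractionRing R) K' : ℤ) * h2χ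

end ConnCompLib
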