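import Groth.Agent.VertIntLib.Degree
import Groth.Agent.VertChiLib.Fibre
import Groth.Agent.VertIntLib.Prod
import Groth.Agent.MiscFlat6.ProperSections
import Groth.Agent.SteinLib.Conn
import Groth.Agent.SteinLib.App
import Groth.Agent.LocFFLib.Basic
import Mathlib.RingTheory.Flat.TorsionFree

/-!
# The Stein factorisation of an arithmetic surface through `Spec H⁰(X, O)`
-/

set_option autoImplicit false
set_option linter.style.haveILetI false
set_option linter.unusedSectionVars false
set_option maxHeartbeats 1000000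
set_option backward.isDefEq.respectTransparency false
set_option backward.isDefEq.respectTransparency.types false
universe u

open CategoryTheory CategoryTheory.Limits AlgebraicGeometry TopologicalSpace Opposite IsLocalRing

noncomputable section

namespace ConnCompLib

variable {R : Type u} [CommRing R] [IsDomain R] [IsDiscreteValuationRing R] (X : Over (Spec (CommRingCat.of R)))

/-- The base ring map `R → H⁰(X, O)`. -/
abbrev g0 : R →+* Γ(X.left, ⊤) := Coh.toGlobal X.hom

/-- The finite morphism `Spec H⁰(X, O) → Spec R`. -/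
abbrev baseMap : Spec Γ(X.left, ⊤) ⟶ Spec (CommRingCat.of R) := Spec.map (CommRingCat.ofHom (g0 X))

theorem toSpecΓ_baseMap : X.left.toSpecΓ ≫ baseMap X = X.hom := by
  have h : (CommRingCat.ofHom (g0 X)) = (Scheme.ΓSpecIso (CommRingCat.of R)).inv ≫ X.hom.appTop := rfl
  rw [baseMap, h, Spec.map_comp, ← Category.assoc, ← Scheme.toSpecΓ_naturality, Category.assoc,
    toSpecΓ_SpecMap_ΓSpecIso_inv, Category.comp_id]

theorem isProper_toSpecΓ [IsProper X.hom] : IsProper X.left.toSpecΓ := by
  haveI : IsProper (X.left.toSpecΓ ≫ baseMap X) := by rw [toSpecΓ_baseMap]; infer_instance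
  exact IsProper.of_comp X.left.toSpecΓ (baseMap X)

theorem toSpecΓ_finite [IsProper X.hom] : (g0 X).Finite := MiscFlat6.toGlobal_finite X.hom

theorem g0_injective [IsIntegral X.left] [Flat X.hom] : Function.Injective (g0 X) := by
  refine (injective_iff_map_eq_zero _).2 fun r hr => ?_
  by_contra hr0
  have hη := RelMinSmLib.eta (R := R)
  obtain ⟨z, hz, hzη⟩ := Flat.generalizingMap X.hom
    ((genericPoint_spec (Spec (CommRingCat.of R))).specializes (Set.mem_univ (X.hom (genericPoint X.left))))
  have hze : z = genericPoint X.left :=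
    (hz.antisymm ((genericPoint_spec X.left).specializes (Set.mem_univ z))).eq
  subst hze
  have h0 : (r : R) ∉ (X.hom (genericPoint X.left) : PrimeSpectrum R).asIdeal := by
    rw [hzη, genericPoint_eq_bot_of_affine]
    exact hr0
  have h1 : X.hom (genericPoint X.left) ∈ (Spec (CommRingCat.of R)).basicOpen
      ((Scheme.ΓSpecIso (CommRingCat.of R)).inv r) := by
    rw [basicOpen_eq_of_affine]
    exact h0
  have h2 : genericPoint X.left ∈ X.left.basicOpen (g0 X r) :=
    (Scheme.preimage_basicOpen_top X.hom ((Scheme.ΓSpecIso (CommRingCat.of R)).inv r)).le h1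
  rw [hr, Scheme.basicOpen_zero] at h2
  exact h2

theorem isNormalScheme (hreg : ∀ x : X.left, IsRegularLocalRing (X.left.presheaf.stalk x)) :
    Pi1.IsNormalScheme X.left := fun x => by
  haveI := hreg x
  haveI := RegUFDLib.uniqueFactorizationMonoid (X.left.presheaf.stalk x)
  haveI := CommAlgDim.isDomain_of_isRegularLocalRing (X.left.presheaf.stalk x)
  exact ⟨inferInstance, inferInstance⟩

/-- `H⁰(X, O)` is a Dedekind domain. -/
theorem isDedekindDomain [IsProper X.hom] [IsIntegral X.left] [Flat X.hom]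
    (hreg : ∀ x : X.left, IsRegularLocalRing (X.left.presheaf.stalk x)) : IsDedekindDomain Γ(X.left, ⊤) := by
  haveI : Nonempty (⊤ : X.left.Opens) := ⟨⟨genericPoint X.left, trivial⟩⟩
  letI := (g0 X).toAlgebra
  haveI : Module.Finite R Γ(X.left, ⊤) := toSpecΓ_finite X
  haveI : IsNoetherianRing Γ(X.left, ⊤) := IsNoetherianRing.of_finite R _
  haveI : IsIntegrallyClosed Γ(X.left, ⊤) := LocFFLib.isIntegrallyClosed_sections (isNormalScheme X hreg) ⊤
  haveI : Algebra.IsIntegral R Γ(X.left, ⊤) := Algebra.IsIntegral.of_finite R _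
  haveI : Ring.DimensionLEOne Γ(X.left, ⊤) := ⟨fun {P} hP hPp => by
    haveI := hPp
    obtain ⟨x, hxP, hx0⟩ := Submodule.exists_mem_ne_zero_of_ne_bot hP
    have hne : P.comap (algebraMap R Γ(X.left, ⊤)) ≠ ⊥ := fun h =>
      hx0 (Ideal.eq_bot_of_comap_eq_bot h ▸ hxP : x ∈ (⊥ : Ideal _))
    exact Ideal.isMaximal_of_isIntegral_of_isMaximal_comap P
      (IsPrime.to_maximal_ideal hne)⟩
  exact {}

/-- `X → Spec H⁰(X, O)` is flat. -/
theorem flat_toSpecΓ [IsProper X.hom] [IsIntegral X.left] [Flat X.hom]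
    (hreg : ∀ x : X.left, IsRegularLocalRing (X.left.presheaf.stalk x)) : Flat X.left.toSpecΓ := by
  haveI := isDedekindDomain X hreg
  haveI : Nonempty (⊤ : X.left.Opens) := ⟨⟨genericPoint X.left, trivial⟩⟩
  refine (HasRingHomProperty.iff_exists_appLE (P := @Flat)
    (RingHom.Flat.stableUnderComposition.stableUnderCompositionWithLocalizationAway
      RingHom.Flat.holdsForLocalizationAway).left).2 fun x => ?_
  obtain ⟨U, hU, hxU, -⟩ := exists_isAffineOpen_mem_and_subset (X := X.left) (x := x) (U := ⊤) trivial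
  haveI : Nonempty U := ⟨⟨x, hxU⟩⟩
  refine ⟨⟨⊤, isAffineOpen_top _⟩, ⟨U, hU⟩, hxU, le_top, ?_⟩
  have hρ : (X.left.presheaf.map (homOfLE (le_top : U ≤ ⊤)).op).hom.Flat := by
    letI := (X.left.presheaf.map (homOfLE (le_top : U ≤ ⊤)).op).hom.toAlgebra
    haveI : FaithfulSMul Γ(X.left, ⊤) Γ(X.left, U) := by
      rw [faithfulSMul_iff_algebraMap_injective]
      intro a b hab
      refine X.left.germToFunctionField_injective ⊤ ?_
      have hg : genericPoint X.left ∈ U :=
        ((genericPoint_spec X.left).mem_open_set_iff U.2).2 ⟨x, Set.mem_univ x, hxU⟩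
      show X.left.presheaf.germ ⊤ (genericPoint X.left) trivial a = X.left.presheaf.germ ⊤ (genericPoint X.left) trivial b
      rw [← TopCat.Presheaf.germ_res_apply X.left.presheaf (homOfLE (le_top : U ≤ ⊤)) _ hg a,
        ← TopCat.Presheaf.germ_res_apply X.left.presheaf (homOfLE (le_top : U ≤ ⊤)) _ hg b]
      exact congrArg _ hab
    exact RingHom.flat_algebraMap_iff.2 (inferInstance : Module.Flat Γ(X.left, ⊤) Γ(X.left, U))
  have e : X.left.toSpecΓ.appLE ⊤ U le_top =
      (Scheme.ΓSpecIso Γ(X.left, ⊤)).hom ≫ X.left.presheaf.map (homOfLE (le_top : U ≤ ⊤)).op := by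
    rw [Scheme.Hom.appLE, ← Scheme.toSpecΓ_appTop]
  show RingHom.Flat (X.left.toSpecΓ.appLE ⊤ U le_top).hom
  rw [e]
  exact RingHom.Flat.comp (RingHom.Flat.of_bijective (ConcreteCategory.bijective_of_isIso _)) hρ

/-- The fibres of `X → Spec H⁰(X, O)` are connected. -/
theorem isConnected_fibre [IsProper X.hom] (p : Spec Γ(X.left, ⊤)) :
    _root_.IsConnected (X.left.toSpecΓ ⁻¹' {p}) := by
  haveI := isProper_toSpecΓ X
  haveI : GeometricallyConnected X.left.toSpecΓ := by
    refine SteinLib.geometricallyConnected_of_isIso_app X.left.toSpecΓ fun U _ => ?_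
    refine SteinLib.isIso_app_of_cover X.left.toSpecΓ (fun _ : PUnit.{u + 1} => ⊤) (fun _ => isAffineOpen_top _)
      (fun _ => ⟨⟨⟩, trivial⟩) (fun _ => ?_) U
    show IsIso X.left.toSpecΓ.appTop
    rw [Scheme.toSpecΓ_appTop]
    infer_instance
  haveI : ConnectedSpace ↥(X.left.toSpecΓ.fiber p) :=
    inferInstance
  have h := isConnected_range (X.left.toSpecΓ.fiberι p).continuous
  rwa [Scheme.Hom.range_fiberι] at h

/-- The points over the closed point go to closed points of `Spec H⁰(X, O)`. -/
theorem isMaximal_of_over [IsProper X.hom] {x : X.left} (hx : X.hom x = closedPoint R) :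
    (X.left.toSpecΓ x).asIdeal.IsMaximal ∧
      maximalIdeal R ≤ (X.left.toSpecΓ x).asIdeal.comap (g0 X) := by
  letI := (g0 X).toAlgebra
  haveI : Module.Finite R Γ(X.left, ⊤) := toSpecΓ_finite X
  haveI : Algebra.IsIntegral R Γ(X.left, ⊤) := Algebra.IsIntegral.of_finite R _
  have h : (X.left.toSpecΓ x).asIdeal.comap (g0 X) = maximalIdeal R := by
    have h1 : baseMap X (X.left.toSpecΓ x) = closedPoint R := by
      rw [← Scheme.Hom.comp_apply, toSpecΓ_baseMap, hx]
    exact congrArg PrimeSpectrum.asIdeal h1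
  refine ⟨?_, h.ge⟩
  exact Ideal.isMaximal_of_isIntegral_of_isMaximal_comap _ (by
    rw [show (X.left.toSpecΓ x).asIdeal.comap (algebraMap R Γ(X.left, ⊤)) = maximalIdeal R from h]
    exact maximalIdeal.isMaximal R)

end ConnCompLib
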